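import Cfsg.Agent.H996.PQ.Hi

/-!
# Long root subgroups in a root group datum (helper89, for S4612, task X1 of helper996)

* `mem_WJ_of_fix_hi` : the stabiliser of the highest root `α₀` is `W_J`, `J = {i | i ≠ j₀}`;
* `B_le_normalizer_hi`, `PJ_le_normalizer_hi` : `P_{j₀}` normalises `X α₀`;
* `mem_PJ_of_conj_mem` : the conjugates of `X α₀` intersect trivially;
* `card_long` : the number of long root elements.
-/

set_option autoImplicit false
set_option linter.unusedSectionVars false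

namespace Cfsg.Agent.H89.PQX

open Cfsg Cfsg.Agent.H967.Sph Cfsg.Agent.H996.PQ
open CoxeterSystem Cfsg.Agent.ChevalleyStructure.CoxeterGeom Cfsg.Agent.Tits.Roots Cfsg.Agent.Tits.Core
  Cfsg.Agent.Tits.Exchange Cfsg.Agent.Nodes.Reps Cfsg.Agent.Nodes.BNOf Cfsg.Agent.Nodes.Bruhat
  Cfsg.Agent.Nodes.OppDec Cfsg.Agent.Nodes.LeviDec

universe u v

variable {I W : Type*} {Y : Type u} [Fintype I] [DecidableEq I] [Group W] [Finite W] [Group Y]
    {M : CoxeterMatrix I} {cs : CoxeterSystem M W} {A : I → I → ℤ} {h : IsCartan M A} {p : ℕ} {T : Subgroup Y}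
    {n : I → Y} {X : (I → ℤ) → Subgroup Y} (R : RGD cs h p T n X)
    {j₀ : I} {α₀ D : I → ℤ}

/-- the invariant form -/
def frm (A : I → I → ℤ) (D x y : I → ℤ) : ℤ := ∑ i, x i * D i * pairing A i y

theorem frm_symm (hs : ∀ i k, D i * A i k = D k * A k i) (x y : I → ℤ) : frm A D x y = frm A D y x := by
  unfold frm pairing
  simp_rw [Finset.mul_sum]
  rw [Finset.sum_comm]
  refine Finset.sum_congr rfl fun k _ => Finset.sum_congr rfl fun i _ => ?_
  have := hs i k
  calc x i * D i * (A i k * y k) = x i * (D i * A i k) * y k := by ring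
    _ = y k * D k * (A k i * x i) := by rw [this]; ring

theorem frm_sub_smul (x y : I → ℤ) (c : ℤ) (i : I) :
    frm A D (x - c • sr i) y = frm A D x y - c * (D i * pairing A i y) := by
  unfold frm
  have h1 : ∀ k, (x - c • sr i) k * D k * pairing A k y =
      x k * D k * pairing A k y - (if k = i then c * (D i * pairing A i y) else 0) := by
    intro k
    rw [Pi.sub_apply, Pi.smul_apply, smul_eq_mul]
    by_cases hk : k = i
    · subst hk
      rw [sr_self, if_pos rfl]; ring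
    · rw [sr_ne hk, if_neg hk]; ring
  rw [Finset.sum_congr rfl fun k _ => h1 k, Finset.sum_sub_distrib, Finset.sum_ite_eq' Finset.univ i,
    if_pos (Finset.mem_univ i)]

omit [Finite W] in
theorem frm_simple (hs : ∀ i k, D i * A i k = D k * A k i) (i : I) (x y : I → ℤ) :
    frm A D (rep cs h (cs.simple i) x) (rep cs h (cs.simple i) y) = frm A D x y := by
  have h1 : ∀ x y : I → ℤ, frm A D (rep cs h (cs.simple i) x) y = frm A D x y - pairing A i x * (D i * pairing A i y) := by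
    intro x y
    rw [rep_simple_eq, frm_sub_smul]
  have h2 : pairing A i (rep cs h (cs.simple i) y) = - pairing A i y := by
    rw [rep_simple_eq]
    have h3 : pairing A i (y - pairing A i y • sr i) = pairing A i y - pairing A i y * A i i := by
      have h4 : y - pairing A i y • sr i = y + (-(pairing A i y)) • sr i := by rw [neg_smul, sub_eq_add_neg]
      have h5 : (-(pairing A i y)) • (sr i : I → ℤ) = Pi.single i (-(pairing A i y)) := by
        rw [sr, ← Pi.single_smul, smul_eq_mul, mul_one]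
      rw [h4, pairing_add, h5, pairing_single]
      ring
    rw [h3, h.diag]; ring
  rw [h1, h2, frm_symm hs x, h1, frm_symm hs y]
  ring

omit [Finite W] in
theorem frm_rep (hs : ∀ i k, D i * A i k = D k * A k i) (w : W) (x y : I → ℤ) :
    frm A D (rep cs h w x) (rep cs h w y) = frm A D x y := by
  obtain ⟨ω, rfl⟩ := cs.wordProd_surjective w
  induction ω with
  | nil => rw [wordProd_nil, map_one, Module.End.one_apply, Module.End.one_apply]
  | cons i ω ih => rw [wordProd_cons, rep_mul_apply, rep_mul_apply, frm_simple hs, ih]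

theorem frm_hi (hi : Hi A j₀ α₀ D) (x : I → ℤ) : frm A D x α₀ = x j₀ * (D j₀ * ∑ k, A j₀ k * α₀ k) := by
  unfold frm pairing
  rw [Finset.sum_eq_single j₀]
  · ring
  · intro i _ hij
    rw [hi.orth i hij, mul_zero]
  · intro h1
    exact absurd (Finset.mem_univ _) h1

omit [Finite W] in
/-- the form `F(x,y) = ∑ x_i D_i A_ik y_k` is invariant; hence the stabiliser of `α₀` is `W_J`, `J = {i | i ≠ j₀}` -/
theorem mem_WJ_of_fix_hi (hi : Hi A j₀ α₀ D) {w : W} (hw : rep cs h w α₀ = α₀) : w ∈ WJ cs {i | i ≠ j₀} := by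
  apply mem_WJ_of_fix cs h
  intro x
  have h1 := frm_rep (cs := cs) (h := h) hi.sym w x α₀
  rw [hw, frm_hi hi, frm_hi hi] at h1
  have h2 : D j₀ * ∑ k, A j₀ k * α₀ k ≠ 0 := (mul_pos (hi.pos j₀) hi.top).ne'
  exact mul_right_cancel₀ h2 h1

omit [Finite W] in
/-- the elements of `W_J` fix `α₀` -/
theorem rep_hi_of_mem_WJ (hi : Hi A j₀ α₀ D) {w : W} (hw : w ∈ WJ cs {i | i ≠ j₀}) : rep cs h w α₀ = α₀ := by
  obtain ⟨ω, hω, rfl⟩ := exists_word_of_mem_WJ cs hw
  clear hw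
  induction ω with
  | nil => rw [wordProd_nil, map_one, Module.End.one_apply]
  | cons i ω ih =>
    rw [wordProd_cons, rep_mul_apply, ih fun l hl => hω l (by simp [hl]), rep_simple_eq]
    have h1 : pairing A i α₀ = 0 := hi.orth i (hω i (by simp))
    rw [h1, zero_smul, sub_zero]

include R in
/-- the Borel subgroup normalises `X α₀` -/
theorem B_le_normalizer_hi (hc : Cen cs h X α₀) (hr : IsRoot cs h α₀) :
    RGD.B cs h T X ≤ Subgroup.normalizer (X α₀ : Set Y) := by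
  refine sup_le (fun t ht => mem_normalizer_iff_cj.2 (R.tor α₀ hr t ht)) (RGD.Sup_le fun x hx a ha => ?_)
  rw [Subgroup.mem_normalizer_iff]
  have hcomm : ∀ b ∈ X α₀, a * b = b * a := fun b hb => hc x hx.1 hx.2 a ha b hb
  intro b
  constructor
  · intro hb
    have h1 : a * b * a⁻¹ = b := by rw [hcomm b hb, mul_inv_cancel_right]
    show a * b * a⁻¹ ∈ X α₀
    rw [h1]; exact hb
  · intro hb
    have h1 : a * (a * b * a⁻¹) = (a * b * a⁻¹) * a := hcomm _ hb
    have h2 : b = a * b * a⁻¹ := by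
      have h3 : a * b * a⁻¹ = a⁻¹ * (a * (a * b * a⁻¹)) := by group
      rw [h3, h1]; group
    show b ∈ X α₀
    rw [h2]; exact hb

include R in
/-- `P_{j₀}` normalises `X α₀` -/
theorem PJ_le_normalizer_hi (hi : Hi A j₀ α₀ D) (hc : Cen cs h X α₀) (hr : IsRoot cs h α₀) :
    PJ cs h T X {i | i ≠ j₀} ≤ Subgroup.normalizer (X α₀ : Set Y) := by
  intro g hg
  obtain ⟨w, hw, b₁, hb₁, k, hk, b₂, hb₂, rfl⟩ := (mem_PJ_iff_cell R).1 hg
  have hB := B_le_normalizer_hi R hc hr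
  refine mul_mem (mul_mem (hB hb₁) ?_) (hB hb₂)
  rw [mem_normalizer_iff_cj, R.conj_rp hk hr, rep_hi_of_mem_WJ hi hw]

include R in
/-- the conjugates of `X α₀` by elements outside `P_{j₀}` meet `X α₀` trivially -/
theorem mem_PJ_of_conj_mem (hG : GG cs h T X = ⊤) (hi : Hi A j₀ α₀ D) (hc : Cen cs h X α₀) (hr : IsRoot cs h α₀)
    {g u : Y} (hu : u ∈ X α₀) (hu1 : u ≠ 1) (hg : g * u * g⁻¹ ∈ X α₀) : g ∈ PJ cs h T X {i | i ≠ j₀} := by
  have hB := B_le_normalizer_hi R hc hr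
  obtain ⟨b₁, hb₁, k, hk, b₂, hb₂, e⟩ := cell_wOf R hG g
  set w := wOf R hG g with hwd
  have h1 : b₂ * u * b₂⁻¹ ∈ X α₀ := (Subgroup.mem_normalizer_iff.1 (hB hb₂) u).1 hu
  have h2 : k * (b₂ * u * b₂⁻¹) * k⁻¹ ∈ X (rep cs h w α₀) := R.conj_mem hk hr h1
  have h3 : k * (b₂ * u * b₂⁻¹) * k⁻¹ ∈ X α₀ := by
    refine (Subgroup.mem_normalizer_iff.1 (hB hb₁) _).2 ?_
    have h4 : b₁ * (k * (b₂ * u * b₂⁻¹) * k⁻¹) * b₁⁻¹ = g * u * g⁻¹ := by rw [e]; group
    show b₁ * (k * (b₂ * u * b₂⁻¹) * k⁻¹) * b₁⁻¹ ∈ X α₀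
    rw [h4]; exact hg
  have h5 : k * (b₂ * u * b₂⁻¹) * k⁻¹ ≠ 1 := by
    intro h6
    apply hu1
    have h7 : u = b₂⁻¹ * (k⁻¹ * (k * (b₂ * u * b₂⁻¹) * k⁻¹) * k) * b₂ := by group
    rw [h7, h6]; group
  have h6 : rep cs h w α₀ = α₀ := by
    by_contra hne
    have h7 := X_inf_X R (hr.act w) hr hne
    rw [Subgroup.eq_bot_iff_forall] at h7
    exact h5 (h7 _ ⟨h2, h3⟩)
  rw [mem_PJ_iff_cell R]
  exact ⟨w, mem_WJ_of_fix_hi hi h6, cell_wOf R hG g⟩

include R in
/-- the long root subgroups intersect trivially and their number is `|Y : P_{j₀}|` -/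
theorem card_long [Finite Y] (hG : GG cs h T X = ⊤) (hi : Hi A j₀ α₀ D) (hc : Cen cs h X α₀) (hr : IsRoot cs h α₀) :
    Nat.card {g : Y | ∃ y : Y, ∃ u ∈ X α₀, u ≠ 1 ∧ g = y * u * y⁻¹} + Nat.card (Y ⧸ PJ cs h T X {i | i ≠ j₀}) =
      Nat.card (X α₀) * Nat.card (Y ⧸ PJ cs h T X {i | i ≠ j₀}) := by
  set P := PJ cs h T X {i | i ≠ j₀} with hP
  have hn := PJ_le_normalizer_hi R hi hc hr
  set L := {g : Y | ∃ y : Y, ∃ u ∈ X α₀, u ≠ 1 ∧ g = y * u * y⁻¹} with hL
  let f : (Y ⧸ P) × {u : X α₀ // u ≠ 1} → L := fun c =>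
    ⟨c.1.out * (c.2.1 : Y) * (c.1.out)⁻¹, c.1.out, c.2.1, c.2.1.2, fun h1 => c.2.2 (Subtype.ext h1), rfl⟩
  have hf : Function.Bijective f := by
    constructor
    · rintro ⟨c, u, hu⟩ ⟨c', u', hu'⟩ he
      have h1 : c.out * (u : Y) * (c.out)⁻¹ = c'.out * (u' : Y) * (c'.out)⁻¹ := congrArg Subtype.val he
      have h2 : (c'.out⁻¹ * c.out) * (u : Y) * (c'.out⁻¹ * c.out)⁻¹ = u' := by
        have h3 : (c'.out⁻¹ * c.out) * (u : Y) * (c'.out⁻¹ * c.out)⁻¹ =
            c'.out⁻¹ * (c.out * (u : Y) * (c.out)⁻¹) * c'.out := by group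
        rw [h3, h1]; group
      have h4 : c'.out⁻¹ * c.out ∈ P := mem_PJ_of_conj_mem R hG hi hc hr u.2 (fun h5 => hu (Subtype.ext h5))
        (by rw [h2]; exact u'.2)
      have h5 : c' = c := by
        rw [← QuotientGroup.out_eq' c', ← QuotientGroup.out_eq' c]
        exact QuotientGroup.eq.2 h4
      subst h5
      have h6 : (u : Y) = u' := by
        rw [← h2]; group
      have h7 : u = u' := Subtype.ext h6
      subst h7
      rfl
    · rintro ⟨_, y, u, hu, hu1, rfl⟩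
      set c : Y ⧸ P := (y : Y ⧸ P) with hc'
      have h1 : c.out⁻¹ * y ∈ P := QuotientGroup.eq.1 (by rw [QuotientGroup.out_eq'])
      have h2 : (c.out⁻¹ * y) * u * (c.out⁻¹ * y)⁻¹ ∈ X α₀ := (Subgroup.mem_normalizer_iff.1 (hn h1) u).1 hu
      have h3 : (⟨_, h2⟩ : X α₀) ≠ 1 := by
        intro h4
        apply hu1
        have h5 : (c.out⁻¹ * y) * u * (c.out⁻¹ * y)⁻¹ = 1 := congrArg Subtype.val h4
        exact conj_eq_one_iff.1 h5
      refine ⟨(c, ⟨⟨_, h2⟩, h3⟩), Subtype.ext ?_⟩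
      show c.out * ((c.out⁻¹ * y) * u * (c.out⁻¹ * y)⁻¹) * (c.out)⁻¹ = y * u * y⁻¹
      group
  have h1 : Nat.card L = Nat.card (Y ⧸ P) * Nat.card {u : X α₀ // u ≠ 1} := by
    rw [← Nat.card_prod]
    exact (Nat.card_congr (Equiv.ofBijective f hf)).symm
  have h2 : Nat.card {u : X α₀ // u ≠ 1} + 1 = Nat.card (X α₀) := by
    have := Fintype.ofFinite (X α₀)
    classical
    rw [Nat.card_eq_fintype_card, Nat.card_eq_fintype_card, Fintype.card_subtype_compl, Fintype.card_subtype_eq]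
    have : 0 < Fintype.card (X α₀) := Fintype.card_pos
    omega
  rw [h1, ← h2]
  ring

end Cfsg.Agent.H89.PQX
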